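import Cfsg.Agent.Lib.Orth.Eichler
import Cfsg.Agent.Lib.Orth.Models

/-
Bit matrices over `ZMod 2` (lists of columns as natural numbers) for fast `decide`, and a
certificate for the vanishing of first cohomology of a two-generated matrix group.
Main results (namespace `Cfsg.Agent.BitMat`): `toMat`, `toMat_mulB`, `toMat_addB`,
`mat_prod`, `cocycle_prod`, `principal_of_cert`, `principal_omega`, `eich_mem_of_basis`.
-/

set_option autoImplicit false
set_option linter.unusedSectionVars false

namespace Cfsg.Agent.BitMat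

open Matrix

/-- The value of a bit. -/
def bitVal (v i : ℕ) : ZMod 2 := if Nat.testBit v i then 1 else 0

theorem bitVal_xor (a b i : ℕ) : bitVal (a ^^^ b) i = bitVal a i + bitVal b i := by
  simp only [bitVal, Nat.testBit_xor]
  cases Nat.testBit a i <;> cases Nat.testBit b i <;> simp <;> decide

theorem bitVal_zero (i : ℕ) : bitVal 0 i = 0 := by simp [bitVal]

/-- The combination of columns given by the bits of `v`. -/
def appB : List ℕ → ℕ → ℕ
  | [], _ => 0
  | c :: cs, v => (if Nat.testBit v 0 then c else 0) ^^^ appB cs (v >>> 1)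

theorem bitVal_appB : ∀ (L : List ℕ) (v i : ℕ),
    bitVal (appB L v) i = ∑ j ∈ Finset.range L.length, bitVal (L.getD j 0) i * bitVal v j
  | [], v, i => by simp [appB, bitVal_zero]
  | c :: cs, v, i => by
    rw [appB, bitVal_xor, bitVal_appB cs, List.length_cons, Finset.sum_range_succ', add_comm]
    congr 1
    · refine Finset.sum_congr rfl fun j _ => ?_
      rw [List.getD_cons_succ]
      congr 1
      simp [bitVal, Nat.testBit_shiftRight, Nat.add_comm]
    · rw [List.getD_cons_zero]
      by_cases h : Nat.testBit v 0 <;> simp [bitVal, h]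

/-- The product of bit matrices. -/
def mulB (A B : List ℕ) : List ℕ := B.map (appB A)

/-- The sum of bit matrices. -/
def addB (A B : List ℕ) : List ℕ := List.zipWith (· ^^^ ·) A B

/-- The identity bit matrix. -/
def idB (n : ℕ) : List ℕ := (List.range n).map (2 ^ ·)

variable {ι : Type} [Fintype ι] [DecidableEq ι] {n : ℕ}

/-- The matrix of a list of columns. -/
def toMat (e : ι ≃ Fin n) (L : List ℕ) : Matrix ι ι (ZMod 2) :=
  fun i j => bitVal (L.getD (e j : ℕ) 0) (e i)

theorem length_mulB (A B : List ℕ) : (mulB A B).length = B.length := List.length_map ..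

theorem length_addB {A B : List ℕ} (hA : A.length = n) (hB : B.length = n) :
    (addB A B).length = n := by simp [addB, hA, hB]

theorem length_idB : (idB n).length = n := by simp [idB]

theorem toMat_idB (e : ι ≃ Fin n) : toMat e (idB n) = 1 := by
  ext i j
  rw [Matrix.one_apply]
  have h2 : (idB n).getD (e j : ℕ) 0 = 2 ^ (e j : ℕ) := by
    rw [List.getD_eq_getElem (hn := by rw [length_idB]; exact (e j).2)]
    simp [idB]
  simp only [toMat, h2, bitVal, Nat.testBit_two_pow, decide_eq_true_eq]
  by_cases h : i = j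
  · simp [h]
  · rw [if_neg h, if_neg fun h' => h (e.injective (Fin.val_injective h'.symm))]

theorem toMat_mulB (e : ι ≃ Fin n) {A B : List ℕ} (hA : A.length = n) (hB : B.length = n) :
    toMat e (mulB A B) = toMat e A * toMat e B := by
  ext i j
  have hj : (e j : ℕ) < (mulB A B).length := by rw [length_mulB, hB]; exact (e j).2
  simp only [toMat, Matrix.mul_apply]
  rw [List.getD_eq_getElem (hn := hj)]
  simp only [mulB, List.getElem_map]
  rw [bitVal_appB, hA, ← Fin.sum_univ_eq_sum_range]
  rw [← e.sum_comp]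
  refine Finset.sum_congr rfl fun l _ => ?_
  rw [List.getD_eq_getElem B 0 (by rw [hB]; exact (e j).2)]

theorem toMat_addB (e : ι ≃ Fin n) {A B : List ℕ} (hA : A.length = n) (hB : B.length = n) :
    toMat e (addB A B) = toMat e A + toMat e B := by
  ext i j
  simp only [toMat, Matrix.add_apply]
  rw [List.getD_eq_getElem (hn := by rw [length_addB hA hB]; exact (e j).2),
    List.getD_eq_getElem (hn := by rw [hA]; exact (e j).2),
    List.getD_eq_getElem (hn := by rw [hB]; exact (e j).2)]
  simp only [addB, List.getElem_zipWith, bitVal_xor]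

theorem toMat_zero (e : ι ≃ Fin n) : toMat e (List.replicate n 0) = 0 := by
  ext i j
  simp [toMat, bitVal_zero]

variable {G : Type*} [Group G] {α : Type*}

/-- The value of a word. -/
def evalB (n : ℕ) (L : α → List ℕ) : List α → List ℕ
  | [] => idB n
  | a :: w => mulB (L a) (evalB n L w)

theorem length_evalB {L : α → List ℕ} (hL : ∀ a, (L a).length = n) :
    ∀ w, (evalB n L w).length = n
  | [] => length_idB
  | a :: w => by rw [evalB, length_mulB, length_evalB hL w]

theorem mat_prod (e : ι ≃ Fin n) (ρ : G →* Matrix ι ι (ZMod 2)) {g : α → G} {L : α → List ℕ}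
    (hL : ∀ a, (L a).length = n) (hg : ∀ a, ρ (g a) = toMat e (L a)) :
    ∀ w : List α, ρ (w.map g).prod = toMat e (evalB n L w)
  | [] => by simp [evalB, toMat_idB]
  | a :: w => by
    rw [List.map_cons, List.prod_cons, map_mul, mat_prod e ρ hL hg w, hg, evalB,
      toMat_mulB e (hL a) (length_evalB hL w)]

/-- The derivative of a word in two letters with respect to the second one. -/
def derB (n : ℕ) (L : Bool → List ℕ) : List Bool → List ℕ
  | [] => List.replicate n 0
  | a :: w =>
    addB (if a then idB n else List.replicate n 0) (mulB (L a) (derB n L w))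

theorem length_derB {L : Bool → List ℕ} : ∀ w, (derB n L w).length = n
  | [] => List.length_replicate ..
  | a :: w => by
    rw [derB]
    refine length_addB ?_ ?_
    · cases a <;> simp [length_idB]
    · rw [length_mulB, length_derB w]

theorem cocycle_prod (e : ι ≃ Fin n) (ρ : G →* Matrix ι ι (ZMod 2)) (f : G → ι → ZMod 2)
    (hf : ∀ g h, f (g * h) = f g + ρ g *ᵥ f h) {g : Bool → G} {L : Bool → List ℕ}
    (hL : ∀ a, (L a).length = n) (hg : ∀ a, ρ (g a) = toMat e (L a)) (h0 : f (g false) = 0) :
    ∀ w : List Bool, f (w.map g).prod = toMat e (derB n L w) *ᵥ f (g true)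
  | [] => by
    have h1 := hf 1 1
    rw [mul_one, map_one, Matrix.one_mulVec] at h1
    simp only [List.map_nil, List.prod_nil, derB, toMat_zero, Matrix.zero_mulVec]
    simpa using h1
  | a :: w => by
    rw [List.map_cons, List.prod_cons, hf, cocycle_prod e ρ f hf hL hg h0 w, derB,
      toMat_addB e (by cases a <;> simp [length_idB]) (by rw [length_mulB, length_derB w]),
      toMat_mulB e (hL a) (length_derB w), Matrix.add_mulVec, ← Matrix.mulVec_mulVec, hg]
    cases a <;> simp [toMat_idB, toMat_zero, h0]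

/-- The sum of the products of the coefficients with the derivatives. -/
def combB (n : ℕ) (L : Bool → List ℕ) : List (List Bool × List ℕ) → List ℕ
  | [] => List.replicate n 0
  | (w, C) :: R => addB (mulB C (derB n L w)) (combB n L R)

theorem length_combB {L : Bool → List ℕ} : ∀ R, (combB n L R).length = n
  | [] => List.length_replicate ..
  | (w, C) :: R => by
    rw [combB]
    exact length_addB (by rw [length_mulB, length_derB]) (length_combB R)

/-- Certificate of the vanishing of the first cohomology. -/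
theorem principal_of_cert (e : ι ≃ Fin n) (ρ : G →* Matrix ι ι (ZMod 2))
    (hρ : Function.Injective ρ) (g : Bool → G) (hgen : Subgroup.closure (Set.range g) = ⊤)
    (L : Bool → List ℕ) (hL : ∀ a, (L a).length = n) (hg : ∀ a, ρ (g a) = toMat e (L a))
    (B : List ℕ) (hB : B.length = n) (hkB : mulB (addB (L false) (idB n)) B = idB n)
    (R : List (List Bool × List ℕ))
    (hR : ∀ r ∈ R, evalB n L r.1 = idB n ∧ r.2.length = n) (hcomb : combB n L R = idB n)
    (f : G → ι → ZMod 2) (hf : ∀ g h, f (g * h) = f g + ρ g *ᵥ f h) :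
    ∃ v : ι → ZMod 2, ∀ x, f x = ρ x *ᵥ v - v := by
  set v := toMat e B *ᵥ f (g false) with hv
  refine ⟨v, fun x => ?_⟩
  set f' : G → ι → ZMod 2 := fun x => f x - (ρ x *ᵥ v - v) with hf'def
  have hf' : ∀ x y, f' (x * y) = f' x + ρ x *ᵥ f' y := by
    intro x y
    simp only [hf'def, hf, map_mul, ← Matrix.mulVec_mulVec, Matrix.mulVec_sub]
    abel
  have h0 : f' (g false) = 0 := by
    have h1 : (toMat e (L false) - 1) * toMat e B = 1 := by
      have h2 := congrArg (toMat e) hkB
      rw [toMat_mulB e (length_addB (hL _) length_idB) hB, toMat_addB e (hL _) length_idB,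
        toMat_idB] at h2
      have e2 : toMat e (L false) - 1 = toMat e (L false) + 1 := by
        ext i j
        exact (CharTwo.sub_eq_add ..)
      rw [e2]
      exact h2
    show f (g false) - (ρ (g false) *ᵥ v - v) = 0
    rw [sub_eq_zero, hv]
    conv_rhs => rw [hg, Matrix.mulVec_mulVec, ← Matrix.sub_mulVec]
    rw [show toMat e (L false) * toMat e B - toMat e B = (toMat e (L false) - 1) * toMat e B by
      rw [Matrix.sub_mul, Matrix.one_mul], h1, Matrix.one_mulVec]
  have hrel : ∀ r ∈ R, toMat e (derB n L r.1) *ᵥ f' (g true) = 0 := by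
    intro r hr
    have h1 : (r.1.map g).prod = 1 := hρ (by
      rw [mat_prod e ρ hL hg, (hR r hr).1, toMat_idB, map_one])
    rw [← cocycle_prod e ρ f' hf' hL hg h0, h1]
    have h2 := hf' 1 1
    rw [mul_one, map_one, Matrix.one_mulVec] at h2
    simpa using h2
  have h1 : f' (g true) = 0 := by
    have key : ∀ R' : List (List Bool × List ℕ), (∀ r ∈ R', r ∈ R) →
        toMat e (combB n L R') *ᵥ f' (g true) = 0 := by
      intro R'
      induction R' with
      | nil => intro _; simp [combB, toMat_zero]
      | cons r R' ih =>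
        intro h
        obtain ⟨w, C⟩ := r
        have hC : C.length = n := (hR _ (h _ List.mem_cons_self)).2
        rw [combB, toMat_addB e (by rw [length_mulB, length_derB]) (length_combB R'),
          toMat_mulB e hC (length_derB w), Matrix.add_mulVec, ← Matrix.mulVec_mulVec,
          hrel _ (h _ List.mem_cons_self), Matrix.mulVec_zero, zero_add,
          ih fun r hr => h r (List.mem_cons_of_mem _ hr)]
    have h2 := key R fun r hr => hr
    rwa [hcomb, toMat_idB, Matrix.one_mulVec] at h2
  have hZ : ∀ x, f' x = 0 := by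
    intro x
    have hx : x ∈ Subgroup.closure (Set.range g) := hgen ▸ Subgroup.mem_top x
    have hone : f' 1 = 0 := by
      have h2 := hf' 1 1
      rw [mul_one, map_one, Matrix.one_mulVec] at h2
      simpa using h2
    induction hx using Subgroup.closure_induction with
    | mem y hy =>
      obtain ⟨a, rfl⟩ := hy
      cases a
      exacts [h0, h1]
    | one => exact hone
    | mul a b _ _ ha hb => rw [hf', ha, hb, Matrix.mulVec_zero, add_zero]
    | inv a _ ha =>
      have h2 := hf' a⁻¹ a
      rw [inv_mul_cancel, hone, ha, Matrix.mulVec_zero, add_zero] at h2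
      exact h2.symm
  exact sub_eq_zero.1 (hZ x)

open Cfsg Cfsg.Agent.Orth
open QuadraticMap (polar)

variable {Q : QuadraticForm (ZMod 2) (ι → ZMod 2)}

/-- Certificate form for `Ω` inside an isometry group. -/
theorem principal_omega {σ : Type*} (e : ι ≃ Fin n) (gens : σ → IsoGrp Q) (gL : σ → List ℕ)
    (hgl : ∀ s, (gL s).length = n)
    (hgens : ∀ s, ((gens s : GL ι (ZMod 2)) : Matrix ι ι (ZMod 2)) = toMat e (gL s))
    (hle : Omega (ZMod 2) ⇑Q ≤ Subgroup.closure (Set.range gens))
    (hmem : ∀ s, gens s ∈ Omega (ZMod 2) ⇑Q)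
    (kt : Bool → List σ) (words : σ → List Bool)
    (hwords : ∀ s, evalB n (fun b => evalB n gL (kt b)) (words s) = gL s)
    (B : List ℕ) (hB : B.length = n)
    (hkB : mulB (addB (evalB n gL (kt false)) (idB n)) B = idB n)
    (R : List (List Bool × List ℕ))
    (hR : ∀ r ∈ R, evalB n (fun b => evalB n gL (kt b)) r.1 = idB n ∧ r.2.length = n)
    (hcomb : combB n (fun b => evalB n gL (kt b)) R = idB n)
    (f : ↥(Omega (ZMod 2) ⇑Q) → ι → ZMod 2)
    (hf : ∀ g h, f (g * h) =
      f g + ((((g : IsoGrp Q)) : GL ι (ZMod 2)) : Matrix ι ι (ZMod 2)) *ᵥ f h) :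
    ∃ v : ι → ZMod 2, ∀ g : ↥(Omega (ZMod 2) ⇑Q),
      f g = ((((g : IsoGrp Q)) : GL ι (ZMod 2)) : Matrix ι ι (ZMod 2)) *ᵥ v - v := by
  let ρ₀ : IsoGrp Q →* Matrix ι ι (ZMod 2) :=
    (Units.coeHom _).comp (isometryGroup (ZMod 2) ⇑Q).subtype
  have hρ₀ : Function.Injective ρ₀ := fun a b h => Subtype.ext (Units.ext h)
  set L := fun b => evalB n gL (kt b)
  have hL : ∀ b, (L b).length = n := fun b => length_evalB hgl _
  let g₀ : Bool → IsoGrp Q := fun b => ((kt b).map gens).prod
  have hg₀ : ∀ b, g₀ b ∈ Omega (ZMod 2) ⇑Q := fun b => list_prod_mem fun x hx => by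
    obtain ⟨s, -, rfl⟩ := List.mem_map.1 hx
    exact hmem s
  have hg₀L : ∀ b, ρ₀ (g₀ b) = toMat e (L b) := fun b => mat_prod e ρ₀ hgl hgens (kt b)
  let g : Bool → ↥(Omega (ZMod 2) ⇑Q) := fun b => ⟨g₀ b, hg₀ b⟩
  refine principal_of_cert e (ρ₀.comp (Omega (ZMod 2) ⇑Q).subtype)
    (hρ₀.comp (Subgroup.subtype_injective _)) g ?_ L hL hg₀L B hB hkB R hR hcomb f hf
  apply Subgroup.map_injective (Omega (ZMod 2) ⇑Q).subtype_injective
  rw [MonoidHom.map_closure, ← Set.range_comp, ← MonoidHom.range_eq_map, Subgroup.range_subtype]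
  refine le_antisymm ((Subgroup.closure_le _).2 ?_) (hle.trans ((Subgroup.closure_le _).2 ?_))
  · rintro _ ⟨b, rfl⟩
    exact hg₀ b
  · rintro _ ⟨s, rfl⟩
    have h : gens s = ((words s).map g₀).prod := hρ₀ (by
      rw [mat_prod e ρ₀ hL hg₀L, hwords s]
      exact hgens s)
    rw [SetLike.mem_coe, h]
    refine list_prod_mem fun x hx => ?_
    obtain ⟨b, -, rfl⟩ := List.mem_map.1 hx
    exact Subgroup.subset_closure ⟨b, rfl⟩

/-- Eichler transformations attached to a spanning set generate all of them. -/
theorem eich_mem_of_basis {σ : Type*} [Fintype σ] {u : ι → ZMod 2} (hu : Q u = 0)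
    (b : σ → ι → ZMod 2) (hb : ∀ s, polar ⇑Q u (b s) = 0) {H : Subgroup (IsoGrp Q)}
    (hH : ∀ s, eich Q u (b s) ∈ H) (c : σ → ZMod 2) : eich Q u (∑ s, c s • b s) ∈ H := by
  classical
  suffices ∀ S : Finset σ, polar ⇑Q u (∑ s ∈ S, c s • b s) = 0 ∧
      eich Q u (∑ s ∈ S, c s • b s) ∈ H from (this Finset.univ).2
  intro S
  induction S using Finset.induction with
  | empty => simp [pl_zero_right, eich_zero]
  | insert s S hs ih =>
    have h1 : polar ⇑Q u (c s • b s) = 0 := by rw [pl_smul_right, hb, mul_zero]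
    have h2 : eich Q u (c s • b s) ∈ H := by
      rcases (show c s = 0 ∨ c s = 1 by generalize c s = x; revert x; decide) with h | h <;> rw [h]
      · simp [eich_zero]
      · simpa using hH s
    rw [Finset.sum_insert hs]
    exact ⟨by rw [pl_add_right, h1, ih.1, add_zero], eich_add hu h1 ih.1 ▸ mul_mem h2 ih.2⟩

end Cfsg.Agent.BitMat
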